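import Mathlib
import Groth.Prelude.Def_W4c2arithlefschetzNode
import Groth.Agent.CAlgCohen.Structure
import Groth.Agent.NodeLift.Basic

/-!
# Basic algebra of `B[[t, e]]/(te - π)`, `B` a discrete valuation ring
-/

set_option autoImplicit false

universe u

open IsLocalRing ArLef

namespace Groth.Agent.NodeAlgLib

variable (B : Type u) [CommRing B]

local notation "P2" => MvPowerSeries (Fin 2) B

/-- Restriction to the variable `i`. -/
noncomputable def kill (i : Fin 2) : P2 →ₐ[B] PowerSeries B :=
  MvPowerSeries.killCompl ⟨fun _ : Unit => i, fun _ _ _ => rfl⟩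

theorem kill_self (i : Fin 2) : kill B i (MvPowerSeries.X i) = PowerSeries.X :=
  MvPowerSeries.killCompl_X (e := ⟨fun _ : Unit => i, fun _ _ _ => rfl⟩) ()

theorem kill_other (i j : Fin 2) (h : j ≠ i) : kill B i (MvPowerSeries.X j) = 0 :=
  MvPowerSeries.killCompl_X_eq_zero (by simpa [eq_comm] using h)

theorem kill_C (i : Fin 2) (b : B) : kill B i (MvPowerSeries.C b) = PowerSeries.C b :=
  MvPowerSeries.killCompl_C b

variable {B} (π : B)

local notation "N" => ArLef.NodeAlg B π
local notation "t" => ArLef.NodeAlg.t π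
local notation "e" => ArLef.NodeAlg.e π

theorem te : t * e = algebraMap B N π := by
  show Ideal.Quotient.mk _ (MvPowerSeries.X 0) * Ideal.Quotient.mk _ (MvPowerSeries.X 1) = Ideal.Quotient.mk _ (MvPowerSeries.C π)
  rw [← map_mul, Ideal.Quotient.eq]
  exact Ideal.subset_span rfl

/-- The branch: restriction modulo `π` to the variable `i`. -/
noncomputable def branch (i : Fin 2) : N →+* PowerSeries (B ⧸ Ideal.span {π}) :=
  Ideal.Quotient.lift _ ((PowerSeries.map (Ideal.Quotient.mk (Ideal.span {π}))).comp (kill B i).toRingHom) fun a ha => by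
    obtain ⟨c, rfl⟩ := Ideal.mem_span_singleton.mp ha
    rw [RingHom.comp_apply]
    show PowerSeries.map _ (kill B i _) = 0
    rw [map_mul, map_mul, map_sub, map_mul, kill_C]
    fin_cases i <;> simp [kill_self, kill_other, Ideal.Quotient.eq_zero_iff_mem, Ideal.mem_span_singleton]

theorem branch_mk (i : Fin 2) (p : P2) :
    branch π i (Ideal.Quotient.mk _ p) = PowerSeries.map (Ideal.Quotient.mk (Ideal.span {π})) (kill B i p) := rfl

theorem branch_t0 : branch π 0 t = PowerSeries.X := by rw [branch_mk, kill_self, PowerSeries.map_X]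
theorem branch_e0 : branch π 0 e = 0 := by rw [branch_mk, kill_other B 0 1 (by decide), map_zero]
theorem branch_t1 : branch π 1 t = 0 := by rw [branch_mk, kill_other B 1 0 (by decide), map_zero]
theorem branch_e1 : branch π 1 e = PowerSeries.X := by rw [branch_mk, kill_self, PowerSeries.map_X]

theorem branch_algebraMap (i : Fin 2) (b : B) :
    branch π i (algebraMap B N b) = PowerSeries.C (Ideal.Quotient.mk (Ideal.span {π}) b) := by
  rw [show algebraMap B N b = Ideal.Quotient.mk _ (MvPowerSeries.C b) from rfl, branch_mk, kill_C, PowerSeries.map_C]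

/-- the kernel of a branch is generated by the other variable -/
theorem exists_eq_mul (i j : Fin 2) (hij : j ≠ i) (x : N) (hx : branch π i x = 0) :
    ∃ y : N, x = Ideal.Quotient.mk _ (MvPowerSeries.X j) * y := by
  classical
  obtain ⟨p, rfl⟩ := Ideal.Quotient.mk_surjective x
  rw [branch_mk] at hx
  have h1 : ∀ m : Fin 2 →₀ ℕ, m j = 0 → π ∣ MvPowerSeries.coeff m p := fun m hm => by
    have hm' : m = Finsupp.single i (m i) := Finsupp.ext fun l => by
      rcases eq_or_ne l i with rfl | h
      · simp
      · have hl : l = j := by omega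
        simp [hl, hm, hij]
    have := congrArg (PowerSeries.coeff (m i)) hx
    rw [PowerSeries.coeff_map, map_zero, Ideal.Quotient.eq_zero_iff_mem, Ideal.mem_span_singleton] at this
    rw [hm']
    rw [show PowerSeries.coeff (m i) (kill B i p) = MvPowerSeries.coeff (Finsupp.single i (m i)) p by
      rw [PowerSeries.coeff]
      exact (MvPowerSeries.coeff_killCompl p _).trans (by rw [Finsupp.embDomain_single]; rfl)] at this
    exact this
  choose c hc using h1
  let r : P2 := fun m => if h : m j = 0 then c m h else 0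
  obtain ⟨q, hq⟩ : MvPowerSeries.X j ∣ p - MvPowerSeries.C π * r := MvPowerSeries.X_dvd_iff.mpr fun m hm => by
    rw [map_sub, MvPowerSeries.coeff_C_mul, show MvPowerSeries.coeff m r = c m hm from dif_pos hm, ← hc m hm, sub_self]
  have hp : p = MvPowerSeries.X j * q + MvPowerSeries.C π * r := by linear_combination hq
  rcases (show j = 0 ∨ j = 1 by omega) with rfl | rfl
  · refine ⟨Ideal.Quotient.mk _ q + e * Ideal.Quotient.mk _ r, ?_⟩
    rw [hp, map_add (Ideal.Quotient.mk _), map_mul, map_mul, show Ideal.Quotient.mk _ (MvPowerSeries.C π) = t * e from (te π).symm]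
    show _ = t * _; ring
  · refine ⟨Ideal.Quotient.mk _ q + t * Ideal.Quotient.mk _ r, ?_⟩
    rw [hp, map_add (Ideal.Quotient.mk _), map_mul, map_mul, show Ideal.Quotient.mk _ (MvPowerSeries.C π) = t * e from (te π).symm]
    show _ = e * _; ring

theorem t_dvd_iff {x : N} : t ∣ x ↔ branch π 1 x = 0 :=
  ⟨fun ⟨y, hy⟩ => by rw [hy, map_mul, branch_t1, zero_mul], fun h => exists_eq_mul π 1 0 (by decide) x h⟩

theorem e_dvd_iff {x : N} : e ∣ x ↔ branch π 0 x = 0 :=
  ⟨fun ⟨y, hy⟩ => by rw [hy, map_mul, branch_e0, zero_mul], fun h => exists_eq_mul π 0 1 (by decide) x h⟩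

/-- constant term decomposition -/
theorem decomp (r : N) : ∃ (b : B) (u v : N), r = algebraMap B N b + t * u + e * v := by
  obtain ⟨p, rfl⟩ := Ideal.Quotient.mk_surjective r
  have h : p - MvPowerSeries.C (MvPowerSeries.constantCoeff p) ∈ FSAdic.augIdeal B 2 := by
    simp [FSAdic.augIdeal]
  rw [FSAdic.augIdeal_eq_span, show (Set.range (MvPowerSeries.X : Fin 2 → P2)) = {MvPowerSeries.X 0, MvPowerSeries.X 1} by
    ext z; simp [Fin.exists_fin_two, eq_comm]] at h
  obtain ⟨u, v, huv⟩ := Ideal.mem_span_pair.mp h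
  refine ⟨MvPowerSeries.constantCoeff p, Ideal.Quotient.mk _ u, Ideal.Quotient.mk _ v, ?_⟩
  have := congrArg (Ideal.Quotient.mk (Ideal.span {(MvPowerSeries.X 0 * MvPowerSeries.X 1 - MvPowerSeries.C π : P2)})) huv
  rw [map_add, map_mul, map_mul, map_sub] at this
  show _ = Ideal.Quotient.mk _ (MvPowerSeries.C _) + _ + _
  linear_combination -this

section DVR

variable [IsDomain B] [IsDiscreteValuationRing B]

variable {π} (hπ : Irreducible π)
include hπ

theorem isDomain_quot : IsDomain (B ⧸ Ideal.span {π}) :=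
  Ideal.Quotient.isDomain_iff_prime _ |>.mpr ((Ideal.span_singleton_prime hπ.ne_zero).mpr hπ.prime)

theorem nontrivial : Nontrivial N := by
  haveI := isDomain_quot hπ
  exact (branch π 0).domain_nontrivial

theorem isLocalRing : IsLocalRing N := by
  haveI := nontrivial hπ
  exact IsLocalRing.of_surjective' (Ideal.Quotient.mk _) Ideal.Quotient.mk_surjective

theorem isUnit_iff {r : N} : IsUnit r ↔ r ∉ Ideal.span ({t, e} : Set N) := by
  haveI := nontrivial hπ
  haveI := isDomain_quot hπ
  constructor
  · intro hu hr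
    obtain ⟨a, b, hab⟩ := Ideal.mem_span_pair.mp hr
    have := (hu.map (branch π 0)).map PowerSeries.constantCoeff
    rw [← hab, map_add, map_mul, map_mul, branch_t0, branch_e0] at this
    simp at this
  · intro h
    obtain ⟨b, u, v, rfl⟩ := decomp π r
    have hb : IsUnit b := by
      by_contra hb
      rw [← mem_nonunits_iff, ← IsLocalRing.mem_maximalIdeal, hπ.maximalIdeal_eq] at hb
      obtain ⟨c, rfl⟩ := Ideal.mem_span_singleton.mp hb
      exact h (Ideal.mem_span_pair.mpr ⟨u + e * algebraMap B N c, v, by rw [map_mul, ← te]; ring⟩)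
    obtain ⟨w, hw⟩ := hb.exists_left_inv
    haveI := isLocalRing hπ
    by_contra hr
    have h1 : t ∈ maximalIdeal N := fun ht => by
      have := ((ht.map (branch π 0)).map PowerSeries.constantCoeff)
      simp [branch_t0] at this
    have h2 : e ∈ maximalIdeal N := fun ht => by
      have := ((ht.map (branch π 1)).map PowerSeries.constantCoeff)
      simp [branch_e1] at this
    have h3 : algebraMap B N b ∈ maximalIdeal N := by
      have := sub_mem (sub_mem (show (algebraMap B N b + t * u + e * v) ∈ maximalIdeal N from hr)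
        (Ideal.mul_mem_right u _ h1)) (Ideal.mul_mem_right v _ h2)
      rwa [show algebraMap B N b + t * u + e * v - t * u - e * v = algebraMap B N b by ring] at this
    exact h3 ((IsUnit.of_mul_eq_one_right _ hw).map (algebraMap B N))

theorem prime_t : Prime t := by
  haveI := isDomain_quot hπ
  refine ⟨fun h => ?_, fun h => ?_, fun a b hab => ?_⟩
  · exact PowerSeries.X_ne_zero (R := B ⧸ Ideal.span {π}) (by rw [← branch_t0, h, map_zero])
  · exact (isUnit_iff hπ).mp h (Ideal.subset_span (by simp))
  · simp only [t_dvd_iff, map_mul, mul_eq_zero] at hab ⊢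
    exact hab

theorem prime_e : Prime e := by
  haveI := isDomain_quot hπ
  refine ⟨fun h => ?_, fun h => ?_, fun a b hab => ?_⟩
  · exact PowerSeries.X_ne_zero (R := B ⧸ Ideal.span {π}) (by rw [← branch_e1, h, map_zero])
  · exact (isUnit_iff hπ).mp h (Ideal.subset_span (by simp))
  · simp only [e_dvd_iff, map_mul, mul_eq_zero] at hab ⊢
    exact hab

theorem not_t_dvd_e : ¬ t ∣ e := by
  haveI := isDomain_quot hπ
  rw [t_dvd_iff, branch_e1]; exact PowerSeries.X_ne_zero

theorem not_e_dvd_t : ¬ e ∣ t := by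
  haveI := isDomain_quot hπ
  rw [e_dvd_iff, branch_t0]; exact PowerSeries.X_ne_zero

theorem regular_pi {x : N} (hx : algebraMap B N π * x = 0) : x = 0 := by
  classical
  haveI := isDomain_quot hπ
  haveI : IsDomain (MvPowerSeries (Fin 2) (B ⧸ Ideal.span {π})) := NoZeroDivisors.to_isDomain _
  obtain ⟨p, rfl⟩ := Ideal.Quotient.mk_surjective x
  rw [show algebraMap B N π = Ideal.Quotient.mk _ (MvPowerSeries.C π) from rfl, ← map_mul, Ideal.Quotient.eq_zero_iff_mem,
    Ideal.mem_span_singleton] at hx
  obtain ⟨q, hq⟩ := hx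
  let g := MvPowerSeries.map (σ := Fin 2) (Ideal.Quotient.mk (Ideal.span {π}))
  have hq0 : g q = 0 := by
    have h := congrArg g hq
    simp only [g, map_mul, map_sub, MvPowerSeries.map_C, MvPowerSeries.map_X,
      Ideal.Quotient.eq_zero_iff_mem.mpr (Ideal.mem_span_singleton_self π), map_zero, zero_mul, sub_zero] at h
    refine (mul_eq_zero.mp h.symm).resolve_left (mul_ne_zero ?_ ?_)
    · exact fun h0 => one_ne_zero (α := B ⧸ Ideal.span {π}) (by simpa using congrArg (MvPowerSeries.coeff (Finsupp.single (0 : Fin 2) 1)) h0)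
    · exact fun h0 => one_ne_zero (α := B ⧸ Ideal.span {π}) (by simpa using congrArg (MvPowerSeries.coeff (Finsupp.single (1 : Fin 2) 1)) h0)
  have hdiv : ∀ m, π ∣ MvPowerSeries.coeff m q := fun m => by
    rw [← Ideal.mem_span_singleton, ← Ideal.Quotient.eq_zero_iff_mem, ← MvPowerSeries.coeff_map]
    exact congrArg (MvPowerSeries.coeff m) hq0
  choose c hc using hdiv
  have hqc : q = MvPowerSeries.C π * (show P2 from c) := by
    ext m; rw [MvPowerSeries.coeff_C_mul]; exact hc m
  rw [Ideal.Quotient.eq_zero_iff_mem, Ideal.mem_span_singleton]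
  refine ⟨(show P2 from c), MvPowerSeries.ext fun m => mul_left_cancel₀ hπ.ne_zero ?_⟩
  rw [← MvPowerSeries.coeff_C_mul, ← MvPowerSeries.coeff_C_mul, hq, hqc]
  congr 1; ring

theorem regular_t {x : N} (hx : t * x = 0) : x = 0 :=
  regular_pi hπ (by rw [← te, mul_right_comm, hx, zero_mul])

theorem regular_e {x : N} (hx : e * x = 0) : x = 0 :=
  regular_pi hπ (by rw [← te, mul_assoc, hx, mul_zero])

/-- continuity: `σ r - r` lies in `I` as soon as it does for constants and the two variables -/
theorem sub_mem_of_gens (σ : N →+* N) (I : Ideal N) (hb : ∀ b, σ (algebraMap B N b) - algebraMap B N b ∈ I)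
    (ht : σ t - t ∈ I) (he : σ e - e ∈ I) (r : N) : σ r - r ∈ I := by
  haveI := isLocalRing hπ
  have hm : Ideal.span ({t, e} : Set N) ≤ maximalIdeal N := fun x hx hu => (isUnit_iff hπ).mp hu hx
  rcases eq_or_ne I ⊤ with rfl | hI
  · trivial
  have key : ∀ n : ℕ, ∀ r, σ r - r ∈ I ⊔ maximalIdeal N ^ n := by
    intro n
    induction n with
    | zero => intro r; simp
    | succ n ih =>
      intro r
      obtain ⟨b, u, v, rfl⟩ := decomp π r
      rw [show σ (algebraMap B N b + t * u + e * v) - (algebraMap B N b + t * u + e * v) =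
        (σ (algebraMap B N b) - algebraMap B N b) + (σ t - t) * σ u + (σ e - e) * σ v + (t * (σ u - u) + e * (σ v - v)) by
          simp only [map_add, map_mul]; ring]
      refine add_mem (Submodule.mem_sup_left (add_mem (add_mem (hb b) (I.mul_mem_right _ ht)) (I.mul_mem_right _ he))) ?_
      have hle : maximalIdeal N * (I ⊔ maximalIdeal N ^ n) ≤ I ⊔ maximalIdeal N ^ (n + 1) := by
        rw [Ideal.mul_sup, pow_succ']; exact sup_le_sup_right Ideal.mul_le_right _
      exact add_mem (hle (Ideal.mul_mem_mul (hm (Ideal.subset_span (by simp))) (ih u)))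
        (hle (Ideal.mul_mem_mul (hm (Ideal.subset_span (by simp))) (ih v)))
  exact NodeLift.mem_of_forall_sup_pow I (IsLocalRing.le_maximalIdeal hI) _ fun n => key n r

theorem fixIdeal_le (σ : N →+* N) (I : Ideal N) (hb : ∀ b, σ (algebraMap B N b) - algebraMap B N b ∈ I)
    (ht : σ t - t ∈ I) (he : σ e - e ∈ I) : ArLef.fixIdeal σ ≤ I :=
  Ideal.span_le.mpr (by rintro _ ⟨r, rfl⟩; exact sub_mem_of_gens hπ σ I hb ht he r)

/-- a prime divisible by a prime is associated to it (no domain hypothesis) -/
theorem associated_of_prime_dvd {p q : N} (hp : Prime p) (hq : Prime q) (h : q ∣ p) : Associated q p := by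
  haveI := isLocalRing hπ
  obtain ⟨a, ha⟩ := h
  rcases hp.dvd_or_dvd (show p ∣ q * a from ha ▸ dvd_rfl) with h1 | h1
  · obtain ⟨c, hc⟩ := h1
    by_cases hu : IsUnit a
    · exact ⟨hu.unit, by rw [IsUnit.unit_spec, ← ha]⟩
    · exfalso
      have h3 : IsUnit (1 - a * c) := isUnit_one_sub_self_of_mem_nonunits _ fun h => hu (isUnit_of_mul_isUnit_left h)
      exact hq.ne_zero (h3.mul_left_eq_zero.mp (by linear_combination hc + c * ha))
  · obtain ⟨c, hc⟩ := h1
    exfalso
    have h3 : IsUnit (1 - q * c) := isUnit_one_sub_self_of_mem_nonunits _ fun h => hq.not_unit (isUnit_of_mul_isUnit_left h)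
    exact hp.ne_zero (h3.mul_left_eq_zero.mp (by linear_combination ha + q * hc))

end DVR

end Groth.Agent.NodeAlgLib
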