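import Groth.Agent.NodeAlgLib.Basic

/-!
# Lengths of quotients by two elements
-/

set_option autoImplicit false

universe u

namespace Groth.Agent.NodeAlgLib

theorem prime_regular_mod {N : Type u} [CommRing N] {p f : N} (hp : Prime p) (hreg : ∀ x, p * x = 0 → x = 0) (h : ¬ p ∣ f)
    (x : N) (hx : f ∣ p * x) : f ∣ x := by
  obtain ⟨y, hy⟩ := hx
  obtain ⟨y', rfl⟩ := (hp.dvd_or_dvd ⟨x, hy.symm⟩).resolve_left h
  exact ⟨y', sub_eq_zero.mp (hreg _ (by linear_combination hy))⟩

theorem length_pair_mul {N : Type u} [CommRing N] (f g h : N) (hg : ∀ x, f ∣ g * x → f ∣ x) :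
    Module.length N (N ⧸ Ideal.span {f, g * h}) = Module.length N (N ⧸ Ideal.span {f, g}) + Module.length N (N ⧸ Ideal.span {f, h}) := by
  have hle : Ideal.span {f, g * h} ≤ Ideal.span {f, g} := Ideal.span_le.mpr (by
    rintro x (rfl | rfl)
    · exact Ideal.subset_span (by simp)
    · exact Ideal.mul_mem_right _ _ (Ideal.subset_span (by simp)))
  have hmap : Ideal.span {f, h} ≤ LinearMap.ker (((Ideal.span {f, g * h}).mkQ : N →ₗ[N] _) ∘ₗ LinearMap.mulLeft _ g) := by
    refine Ideal.span_le.mpr ?_
    rintro x (rfl | rfl) <;> refine (Submodule.Quotient.mk_eq_zero _).mpr ?_ <;> rw [LinearMap.mulLeft_apply]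
    · exact Ideal.mul_mem_left _ _ (Ideal.subset_span (by simp))
    · exact Ideal.subset_span (by simp)
  rw [add_comm]
  refine Module.length_eq_add_of_exact ((Ideal.span {f, h}).liftQ _ hmap) (Submodule.factor hle) ?_ (Submodule.factor_surjective hle) fun z => ?_
  · rw [injective_iff_map_eq_zero]
    intro z hz
    obtain ⟨z, rfl⟩ := Submodule.Quotient.mk_surjective _ z
    replace hz : g * z ∈ Ideal.span {f, g * h} := (Submodule.Quotient.mk_eq_zero _).mp hz
    obtain ⟨a, b, hab⟩ := Ideal.mem_span_pair.mp hz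
    obtain ⟨c, hc⟩ := hg (z - b * h) ⟨a, by linear_combination -hab⟩
    exact (Submodule.Quotient.mk_eq_zero _).mpr (Ideal.mem_span_pair.mpr ⟨c, b, by linear_combination -hc⟩)
  · obtain ⟨z, rfl⟩ := Submodule.Quotient.mk_surjective _ z
    constructor
    · intro hz
      replace hz : z ∈ Ideal.span {f, g} := (Submodule.Quotient.mk_eq_zero _).mp hz
      obtain ⟨a, b, hab⟩ := Ideal.mem_span_pair.mp hz
      refine ⟨Submodule.Quotient.mk b, ?_⟩
      show Submodule.Quotient.mk (g * b) = Submodule.Quotient.mk z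
      rw [Submodule.Quotient.eq]
      exact Ideal.mem_span_pair.mpr ⟨-a, 0, by linear_combination -hab⟩
    · rintro ⟨w, hw⟩
      obtain ⟨w, rfl⟩ := Submodule.Quotient.mk_surjective _ w
      rw [← hw]
      show Submodule.Quotient.mk (g * w) = 0
      exact (Submodule.Quotient.mk_eq_zero _).mpr (Ideal.mul_mem_right _ _ (Ideal.subset_span (by simp)))

theorem length_pair_pow {N : Type u} [CommRing N] (f g : N) (hg : ∀ x, f ∣ g * x → f ∣ x) (n : ℕ) :
    Module.length N (N ⧸ Ideal.span {f, g ^ n}) = (n : ℕ∞) * Module.length N (N ⧸ Ideal.span {f, g}) := by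
  induction n with
  | zero =>
    rw [Nat.cast_zero, zero_mul, pow_zero, Module.length_eq_zero_iff, Ideal.Quotient.subsingleton_iff, Ideal.eq_top_iff_one]
    exact Ideal.subset_span (by simp)
  | succ n ih =>
    rw [pow_succ', length_pair_mul f g _ hg, ih]
    push_cast; ring

theorem colon_mul_eq {N : Type u} [CommRing N] (D : N) (hD : ∀ x, D * x = 0 → x = 0) (I J : Ideal N)
    (h : ∀ x, x ∈ I ↔ ∃ y ∈ J, x = D * y) : I.colon ({D} : Set N) = J := by
  ext r
  rw [Submodule.mem_colon_singleton, smul_eq_mul, h]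
  exact ⟨fun ⟨y, hy, e⟩ => (sub_eq_zero.mp (hD (r - y) (by linear_combination e))).symm ▸ hy, fun hr => ⟨r, hr, mul_comm _ _⟩⟩

theorem length_quot_eq_of_ringHom {R S : Type u} [CommRing R] [CommRing S] (J : Ideal S) (θ : R →+* S) (hθ : Function.Surjective θ)
    (I : Ideal R) (hI : J.comap θ = I) : Module.length R (R ⧸ I) = Module.length S (S ⧸ J) := by
  letI : Algebra R (S ⧸ J) := ((Ideal.Quotient.mk J).comp θ).toAlgebra
  have hs : Function.Surjective ((Ideal.Quotient.mk J).comp θ) := Ideal.Quotient.mk_surjective.comp hθ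
  have e : (R ⧸ I) ≃ₗ[R] (S ⧸ J) :=
    (Submodule.quotEquivOfEq _ _ (by
      ext x
      rw [LinearMap.mem_ker, ← hI, Ideal.mem_comap, ← Ideal.Quotient.eq_zero_iff_mem]
      rfl)).trans (LinearMap.quotKerEquivOfSurjective (Algebra.linearMap R (S ⧸ J)) hs)
  rw [e.length_eq, Module.length_eq_of_surjective (S := R) (R := S ⧸ J) hs,
    ← Module.length_eq_of_surjective (S := S) (R := S ⧸ J) Ideal.Quotient.mk_surjective]

theorem fixIdeal_powerSeries_le {B : Type u} [CommRing B] [IsLocalRing B] [IsNoetherianRing B] (σ : PowerSeries B →+* PowerSeries B)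
    (I : Ideal (PowerSeries B)) (hb : ∀ b, σ (algebraMap B _ b) - algebraMap B _ b ∈ I)
    (hX : σ PowerSeries.X - PowerSeries.X ∈ I) : ArLef.fixIdeal σ ≤ I := by
  refine Ideal.span_le.mpr ?_
  rintro _ ⟨r, rfl⟩
  rcases eq_or_ne I ⊤ with rfl | hI
  · trivial
  refine NodeLift.mem_of_forall_sup_pow I (IsLocalRing.le_maximalIdeal hI) _ fun n => ?_
  induction n generalizing r with
  | zero => simp
  | succ n ih =>
    obtain ⟨u, hu⟩ := PowerSeries.X_dvd_iff.mpr (show PowerSeries.constantCoeff (r - PowerSeries.C (PowerSeries.constantCoeff r)) = 0 by simp)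
    have hr : r = algebraMap B _ (PowerSeries.constantCoeff r) + PowerSeries.X * u := by
      rw [← hu]; show r = PowerSeries.C _ + _; ring
    rw [hr]
    generalize PowerSeries.constantCoeff r = b
    beta_reduce
    rw [show σ (algebraMap B _ b + PowerSeries.X * u) - (algebraMap B _ b + PowerSeries.X * u) =
      (σ (algebraMap B _ b) - algebraMap B _ b) + (σ PowerSeries.X - PowerSeries.X) * σ u + PowerSeries.X * (σ u - u) by
        simp only [map_add, map_mul]; ring]
    refine add_mem (Submodule.mem_sup_left (add_mem (hb b) (I.mul_mem_right _ hX))) ?_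
    have hle : IsLocalRing.maximalIdeal _ * (I ⊔ IsLocalRing.maximalIdeal _ ^ n) ≤ I ⊔ IsLocalRing.maximalIdeal _ ^ (n + 1) := by
      rw [Ideal.mul_sup, pow_succ']; exact sup_le_sup_right Ideal.mul_le_right _
    exact hle (Ideal.mul_mem_mul (show PowerSeries.X ∈ IsLocalRing.maximalIdeal _ from fun h => by
      simpa using h.map PowerSeries.constantCoeff) (ih u))

theorem length_pi_pow {B : Type u} [CommRing B] [IsDomain B] [IsDiscreteValuationRing B] {π : B} (hπ : Irreducible π)
    (f : PowerSeries B) (hf : ¬ algebraMap B (PowerSeries B) π ∣ f) (n : ℕ) :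
    Module.length (PowerSeries B) (PowerSeries B ⧸ Ideal.span {algebraMap B (PowerSeries B) π ^ n, f}) =
      (n : ℕ∞) * Module.length (PowerSeries (IsLocalRing.ResidueField B)) (PowerSeries (IsLocalRing.ResidueField B) ⧸
        Ideal.span ({PowerSeries.map (IsLocalRing.residue B) f} : Set (PowerSeries (IsLocalRing.ResidueField B)))) := by
  let c : PowerSeries B := algebraMap B (PowerSeries B) π
  let θ := PowerSeries.map (IsLocalRing.residue B)
  have hker : ∀ x, θ x = 0 ↔ c ∣ x := fun x => by
    constructor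
    · intro hx
      have h : ∀ m, π ∣ PowerSeries.coeff m x := fun m => by
        have h := congrArg (PowerSeries.coeff m) hx
        rw [PowerSeries.coeff_map, map_zero, IsLocalRing.residue_eq_zero_iff, hπ.maximalIdeal_eq, Ideal.mem_span_singleton] at h
        exact h
      choose d hd using h
      exact ⟨PowerSeries.mk d, PowerSeries.ext fun m => by
        rw [show c = PowerSeries.C π from rfl, PowerSeries.coeff_C_mul, PowerSeries.coeff_mk, hd m]⟩
    · rintro ⟨y, rfl⟩
      rw [map_mul, show θ c = 0 by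
        show PowerSeries.map _ (PowerSeries.C π) = 0
        rw [PowerSeries.map_C, (IsLocalRing.residue_eq_zero_iff π).mpr hπ.not_isUnit, map_zero], zero_mul]
  have hθ : Function.Surjective θ := PowerSeries.map_surjective _ IsLocalRing.residue_surjective
  have hc : Prime c := by
    refine ⟨fun h => hπ.ne_zero ?_, fun h => hπ.not_isUnit ?_, fun a b hab => ?_⟩
    · simpa [c] using congrArg PowerSeries.constantCoeff h
    · simpa [c] using h.map PowerSeries.constantCoeff
    · simp only [← hker, map_mul, mul_eq_zero] at hab ⊢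
      exact hab
  have hreg : ∀ x, c * x = 0 → x = 0 := fun x h => (mul_eq_zero.mp h).resolve_left hc.ne_zero
  rw [show Ideal.span {c ^ n, f} = Ideal.span {f, c ^ n} by rw [Set.pair_comm],
    length_pair_pow f c (prime_regular_mod hc hreg hf) n]
  congr 1
  refine length_quot_eq_of_ringHom _ θ hθ _ (le_antisymm (fun x hx => ?_) (Ideal.span_le.mpr ?_))
  · obtain ⟨w, hw⟩ := Ideal.mem_span_singleton'.mp (Ideal.mem_comap.mp hx)
    obtain ⟨w, rfl⟩ := hθ w
    obtain ⟨d, hd⟩ := (hker (x - w * f)).mp (by rw [map_sub, map_mul, hw, sub_self])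
    exact Ideal.mem_span_pair.mpr ⟨w, d, by linear_combination -hd⟩
  · rintro x (rfl | rfl)
    · exact Ideal.mem_comap.mpr (Ideal.subset_span rfl)
    · exact Ideal.mem_comap.mpr (by rw [(hker c).mpr dvd_rfl]; exact zero_mem _)

end Groth.Agent.NodeAlgLib
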